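import Cfsg.Agent.H76.KJ.Fix
import Cfsg.Agent.H508.XR.Defs2
import Cfsg.Agent.H832.KB.Family

/-!
# S4791 + S4927, D1J, D6J, D8J: lower bounds for `kJ`

* `isCyclic_JJ` : the group of exponents is cyclic for odd `p`;
* `sum_le_kJ` (D1J), `kJ_of_family`, `kJ_of_one` / `kJ_of_elt` (D6J), `kJ_of_two` (D8J), `kJ_of_one_add`.
-/

set_option autoImplicit false

open Cfsg Subgroup
open Cfsg.Agent.H674.XZ Cfsg.Agent.H508.XR

namespace Cfsg.Agent.H76.KJ

universe u

variable {p : ℕ} [hp : Fact p.Prime] {M : Ideal AlgInt}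

/-- the group of exponents is cyclic for odd `p` -/
theorem isCyclic_JJ (h3 : p ≠ 2) (S : Type u) [Group S] [Finite S] : IsCyclic (JJ p S) := by
  have hcard : Nat.card S ≠ 0 := (Nat.card_pos (α := S)).ne'
  set a := (Nat.card S).factorization p with ha
  have hd : p ^ a ∣ Nat.card S := Nat.ordProj_dvd _ _
  have hcyc : IsCyclic (ZMod (p ^ a))ˣ := ZMod.isCyclic_units_of_prime_pow p hp.out h3 a
  let f : JJ p S →* (ZMod (p ^ a))ˣ := (ZMod.unitsMap hd).comp (JJ p S).subtype
  have hf : Function.Injective f := by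
    rw [injective_iff_map_eq_one]
    rintro ⟨u, hu⟩ h
    have h1 : ex u ≡ 1 [MOD mp p S] := ((mem_JJ (p := p) u).1 hu).of_dvd (mp_dvd_dd p S)
    have h2 : ex u ≡ 1 [MOD p ^ a] := by
      have h3 : ZMod.unitsMap hd u = 1 := h
      rw [← ZMod.natCast_eq_natCast_iff]
      have h4 := congrArg Units.val h3
      rw [ZMod.unitsMap_def, Units.coe_map, Units.val_one, MonoidHom.coe_coe, ← ex_cast, map_natCast] at h4
      rw [h4, Nat.cast_one]
    have h5 : ex u ≡ 1 [MOD p ^ a * mp p S] := by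
      refine (Nat.modEq_and_modEq_iff_modEq_mul ?_).1 ⟨h2, h1⟩
      exact Nat.Coprime.pow_left _ ((Nat.Prime.coprime_iff_not_dvd hp.out).2 (not_dvd_mp hp.out S))
    have h6 : p ^ a * mp p S = Nat.card S := Nat.ordProj_mul_ordCompl_eq_self (Nat.card S) p
    rw [h6] at h5
    apply Subtype.ext
    apply Units.ext
    rw [← ex_cast]
    have h7 := (ZMod.natCast_eq_natCast_iff _ _ _).2 h5
    rw [h7, Nat.cast_one]
    rfl
  exact isCyclic_of_injective f hf

/-- D1J -/
theorem sum_le_kJ {S : Type u} [Group S] [Finite S] (h3 : p ≠ 2) (hM : IsPModular p M) (X : Finset S)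
    (hX : ∀ x ∈ X, x ^ p = 1) (hcl : ∀ x ∈ X, ∀ y ∈ X, IsConj x y → x = y) :
    ∑ x ∈ X, blockRank p (principalBlock M ↥(centralizer ({x} : Set S))) ≤ kJ p M S := by
  classical
  have hMp := Blocks.Local.isPrime_of_isPModular hM
  have := Characters.Core.finite_irr (G := S)
  have hJ := isCyclic_JJ (p := p) h3 S
  obtain ⟨⟨u, hu⟩, hgen⟩ := IsCyclic.exists_generator (α := JJ p S)
  have hu1 := (mem_JJ (p := p) u).1 hu
  have hord : ∀ x ∈ X, ∃ k : ℕ, orderOf x = p ^ k := by
    intro x hx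
    rcases (Nat.dvd_prime hp.out).1 (orderOf_dvd_of_pow_eq_one (hX x hx)) with h | h
    · exact ⟨0, by rw [h, pow_zero]⟩
    · exact ⟨1, by rw [h, pow_one]⟩
  have hfix : ∀ x ∈ X, x ^ ex u = x := by
    intro x hx
    have h1 : orderOf x ∣ dd p S := by
      refine Nat.dvd_gcd (orderOf_dvd_natCard x) ?_
      exact (orderOf_dvd_of_pow_eq_one (hX x hx)).trans (Dvd.intro _ rfl)
    have h2 : x ^ ex u = x ^ 1 := pow_eq_pow_iff_modEq.2 (hu1.of_dvd h1)
    rw [h2, pow_one]
  have key := sum_finrank_le_fixed hM Blocks.PrincipalSection.isPBlock_principalBlock (B := principalBlock M S)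
    (κ := ex u) (ex_coprime u) (hu1.of_dvd (mp_dvd_dd p S)) X hord hcl hfix
  have h4 : ∑ x ∈ X, blockRank p (principalBlock M ↥(centralizer ({x} : Set S))) =
      ∑ x ∈ X, Module.finrank ℂ ((H608.BlockRank.charSpan (principalBlock M S)).map
        (H608.BlockRank.secMap p x (centralizer ({x} : Set S)))) :=
    Finset.sum_congr rfl fun x hx => (H634.Cols.finrank_secMap_principal hM (hord x hx)).symm
  rw [h4]
  refine key.trans ?_
  unfold kJ
  refine Nat.card_le_card_of_injective (fun χ => ⟨χ.1, χ.2.1, ?_⟩) ?_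
  · rw [alm_iff]
    let := gact S
    have h5 : u ∈ MulAction.stabilizer (ZMod (Nat.card S))ˣ χ.1 := (pw_eq_iff u χ.1).2 χ.2.2
    intro v hv
    obtain ⟨k, hk⟩ := mem_zpowers_iff.1 (hgen ⟨v, hv⟩)
    have h6 : v = u ^ k := (congrArg Subtype.val hk).symm
    have h7 : v ∈ MulAction.stabilizer (ZMod (Nat.card S))ˣ χ.1 := h6 ▸ zpow_mem h5 k
    exact h7
  · intro χ χ' h
    exact Subtype.ext (congrArg Subtype.val h :)

/-- families `Y i` of elements of order dividing `p` with `b i ≤ l(B₀(C(y)))`, pairwise not conjugate -/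
theorem kJ_of_family {S : Type u} [Group S] [Finite S] (h3 : p ≠ 2) (hM : IsPModular p M) {ι : Type*} (s : Finset ι)
    (Y : ι → Finset S) (b : ι → ℕ) (hY : ∀ i ∈ s, ∀ y ∈ Y i, y ^ p = 1)
    (hb : ∀ i ∈ s, ∀ y ∈ Y i, b i ≤ blockRank p (principalBlock M ↥(centralizer ({y} : Set S))))
    (hcl : ∀ i ∈ s, ∀ j ∈ s, ∀ y ∈ Y i, ∀ z ∈ Y j, IsConj y z → i = j ∧ y = z) (h1 : ∀ i ∈ s, (1 : S) ∉ Y i) :
    ∑ i ∈ s, (Y i).card * b i + blockRank p (principalBlock M S) ≤ kJ p M S := by
  classical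
  have hdisj : (s : Set ι).PairwiseDisjoint Y := by
    intro i hi j hj hij
    rw [Function.onFun, Finset.disjoint_left]
    intro y hyi hyj
    exact hij (hcl i hi j hj y hyi y hyj (IsConj.refl y)).1
  have h1' : (1 : S) ∉ s.biUnion Y := by
    intro h
    obtain ⟨i, hi, h2⟩ := Finset.mem_biUnion.1 h
    exact h1 i hi h2
  have key := sum_le_kJ (S := S) h3 hM (insert 1 (s.biUnion Y)) (by
    intro x hx
    rcases Finset.mem_insert.1 hx with rfl | hx
    · exact one_pow p
    · obtain ⟨i, hi, h2⟩ := Finset.mem_biUnion.1 hx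
      exact hY i hi x h2) (by
    intro x hx y hy hxy
    rcases Finset.mem_insert.1 hx with rfl | hx <;> rcases Finset.mem_insert.1 hy with rfl | hy
    · rfl
    · exact (isConj_one_right.1 hxy).symm
    · exact isConj_one_left.1 hxy
    · obtain ⟨i, hi, h2⟩ := Finset.mem_biUnion.1 hx
      obtain ⟨j, hj, h3⟩ := Finset.mem_biUnion.1 hy
      exact (hcl i hi j hj x h2 y h3 hxy).2)
  rw [Finset.sum_insert h1', Finset.sum_biUnion hdisj] at key
  have h2 : blockRank p (principalBlock M S) ≤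
      blockRank p (principalBlock M ↥(centralizer ({(1 : S)} : Set S))) := by
    apply H296.KB.rank_quot_le hM (centralizer ({(1 : S)} : Set S)).subtype
    intro g
    exact ⟨⟨g, by rw [mem_centralizer_singleton_iff, mul_one, one_mul]⟩, rfl⟩
  have h4 : ∑ i ∈ s, (Y i).card * b i ≤
      ∑ i ∈ s, ∑ y ∈ Y i, blockRank p (principalBlock M ↥(centralizer ({y} : Set S))) := by
    apply Finset.sum_le_sum
    intro i hi
    rw [← smul_eq_mul, ← Finset.sum_const]
    exact Finset.sum_le_sum (hb i hi)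
  omega

theorem pow_p {S : Type u} [Group S] {y : S} (h : orderOf y = p ^ 1) : y ^ p = 1 := by
  rw [pow_one] at h
  rw [← h]
  exact pow_orderOf_eq_one y

/-- D6J -/
theorem kJ_of_elt {S : Type u} [Group S] [Finite S] (h3 : p ≠ 2) (hM : IsPModular p M) (x : S) (hx : orderOf x = p)
    (e b : ℕ) (hfus : ∀ (g : S) (i : ℕ), g * x * g⁻¹ = x ^ i → (i : ZMod p) ^ e = 1)
    (hb : b ≤ blockRank p (principalBlock M ↥(centralizer ({x} : Set S)))) :
    (p - 1) / e * b + blockRank p (principalBlock M S) ≤ kJ p M S := by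
  obtain ⟨Y, h1, h2, h4, h5, h6, h7⟩ :=
    H832.KB.exists_set (M := M) x 1 (by rw [hx, pow_one]) one_ne_zero e b hfus hb
  have key := kJ_of_family h3 hM (Finset.univ : Finset Unit) (fun _ => Y) (fun _ => b)
    (fun _ _ y hy => pow_p (h5 y hy)) (fun _ _ => h6) (fun _ _ _ _ y hy z hz h => ⟨rfl, h4 y hy z hz h⟩)
    (fun _ _ => h7)
  rw [Finset.univ_unique, Finset.sum_singleton] at key
  exact (Nat.add_le_add_right (Nat.mul_le_mul_right _ h1) _).trans key

/-- D8J: two elements of order `p` whose powers are not conjugate -/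
theorem kJ_of_two {S : Type u} [Group S] [Finite S] (h3 : p ≠ 2) (hM : IsPModular p M) (x x' : S) (hx : orderOf x = p)
    (hx' : orderOf x' = p) (e e' b b' : ℕ)
    (hfus : ∀ (g : S) (i : ℕ), g * x * g⁻¹ = x ^ i → (i : ZMod p) ^ e = 1)
    (hfus' : ∀ (g : S) (i : ℕ), g * x' * g⁻¹ = x' ^ i → (i : ZMod p) ^ e' = 1)
    (hne : ∀ (g : S) (i : ℕ), g * x * g⁻¹ ≠ x' ^ i)
    (hb : b ≤ blockRank p (principalBlock M ↥(centralizer ({x} : Set S))))
    (hb' : b' ≤ blockRank p (principalBlock M ↥(centralizer ({x'} : Set S)))) :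
    (p - 1) / e * b + (p - 1) / e' * b' + blockRank p (principalBlock M S) ≤ kJ p M S := by
  have hx1 : orderOf x = p ^ 1 := by rw [hx, pow_one]
  have hx1' : orderOf x' = p ^ 1 := by rw [hx', pow_one]
  obtain ⟨Y, h1, h2, h4, h5, h6, h7⟩ := H832.KB.exists_set (M := M) x 1 hx1 one_ne_zero e b hfus hb
  obtain ⟨Y', h1', h2', h4', h5', h6', h7'⟩ := H832.KB.exists_set (M := M) x' 1 hx1' one_ne_zero e' b' hfus' hb'
  have hcross : ∀ y ∈ Y, ∀ z ∈ Y', ¬ IsConj y z := by
    intro y hy z hz h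
    obtain ⟨i, hi, rfl⟩ := h2 y hy
    obtain ⟨j, hj, rfl⟩ := h2' z hz
    obtain ⟨g, hg⟩ := isConj_iff.1 h
    obtain ⟨m, -, hm⟩ := H832.KB.conj_of_conj_pow hx1 hi hg
    exact hne g _ hm
  have key := kJ_of_family h3 hM (Finset.univ : Finset Bool) (fun t => if t then Y else Y')
    (fun t => if t then b else b') (by
      rintro (_ | _) - y hy
      · exact pow_p (h5' y hy)
      · exact pow_p (h5 y hy)) (by
      rintro (_ | _) - y hy
      · exact h6' y hy
      · exact h6 y hy) (by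
      rintro (_ | _) - (_ | _) - y hy z hz h
      · exact ⟨rfl, h4' y hy z hz h⟩
      · exact absurd h.symm (hcross z hz y hy)
      · exact absurd h (hcross y hy z hz)
      · exact ⟨rfl, h4 y hy z hz h⟩) (by
      rintro (_ | _) -
      · exact h7'
      · exact h7)
  rw [Fintype.sum_bool] at key
  have e1 : (p - 1) / e * b ≤ Y.card * b := Nat.mul_le_mul_right _ h1
  have e2 : (p - 1) / e' * b' ≤ Y'.card * b' := Nat.mul_le_mul_right _ h1'
  simp only [if_true, Bool.false_eq_true, if_false] at key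
  omega

/-- one element and one more class of elements of order `p` -/
theorem kJ_of_elt_add {S : Type u} [Group S] [Finite S] (h3 : p ≠ 2) (hM : IsPModular p M) (x : S)
    (hx : orderOf x = p) (e b : ℕ) (hfus : ∀ (g : S) (i : ℕ), g * x * g⁻¹ = x ^ i → (i : ZMod p) ^ e = 1)
    (hb : b ≤ blockRank p (principalBlock M ↥(centralizer ({x} : Set S))))
    (z : S) (hz : orderOf z = p) (hzx : ∀ i : ℕ, ¬ IsConj z (x ^ i)) :
    (p - 1) / e * b + 1 + blockRank p (principalBlock M S) ≤ kJ p M S := by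
  obtain ⟨Y, h1, h2, h4, h5, h6, h7⟩ :=
    H832.KB.exists_set (M := M) x 1 (by rw [hx, pow_one]) one_ne_zero e b hfus hb
  have hz1 : z ≠ 1 := by
    rintro rfl
    rw [orderOf_one] at hz
    exact hp.out.one_lt.ne hz
  have hcross : ∀ y ∈ Y, ¬ IsConj z y := by
    intro y hy
    obtain ⟨i, -, rfl⟩ := h2 y hy
    exact hzx i
  have key := kJ_of_family h3 hM (Finset.univ : Finset Bool) (fun t => if t then Y else {z})
    (fun t => if t then b else 1) (by
      rintro (_ | _) - y hy
      · obtain rfl := Finset.mem_singleton.1 hy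
        exact pow_p (by rw [hz, pow_one])
      · exact pow_p (h5 y hy)) (by
      rintro (_ | _) - y hy
      · exact H296.KB.one_le_rank hM
      · exact h6 y hy) (by
      rintro (_ | _) - (_ | _) - y hy w hw h
      · exact ⟨rfl, (Finset.mem_singleton.1 hy).trans (Finset.mem_singleton.1 hw).symm⟩
      · obtain rfl := Finset.mem_singleton.1 hy
        exact absurd h (hcross w hw)
      · obtain rfl := Finset.mem_singleton.1 hw
        exact absurd h.symm (hcross y hy)
      · exact ⟨rfl, h4 y hy w hw h⟩) (by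
      rintro (_ | _) -
      · intro h
        exact hz1 (Finset.mem_singleton.1 h).symm
      · exact h7)
  rw [Fintype.sum_bool] at key
  have e1 : (p - 1) / e * b ≤ Y.card * b := Nat.mul_le_mul_right _ h1
  simp only [if_true, Bool.false_eq_true, if_false, Finset.card_singleton] at key
  omega

end Cfsg.Agent.H76.KJ
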